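import Groth.Prelude.Def_CAlg2
import Mathlib.RingTheory.Localization.Integral
import Mathlib.RingTheory.Localization.AtPrime.Basic
import Mathlib.RingTheory.Ideal.GoingUp
import Mathlib.Algebra.CharP.Reduced
import Mathlib.Algebra.CharP.Algebra

/-!
# Geometrically unibranch rings and purely inseparable extensions of the fraction field

If the local rings of a domain `R` are geometrically unibranch and `L` is purely inseparable over the
fraction field, then ring maps from the integral closure of `R` in `L` to fields are determined by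
their restriction to `R`.
-/

universe u

namespace Groth.L28.Unibranch

/-- the map from a ring to the normalisation of its reduction -/
noncomputable def toNorm (A : Type u) [CommRing A] : A →+* CAlg2.normRed A :=
  (algebraMap (CAlg2.red A) (CAlg2.normRed A)).comp (Ideal.Quotient.mk (nilradical A))

lemma toNorm_isIntegral (A : Type u) [CommRing A] : (toNorm A).IsIntegral :=
  RingHom.IsIntegral.trans _ _ (RingHom.IsIntegral.of_finite
    (RingHom.Finite.of_surjective _ Ideal.Quotient.mk_surjective))
    (algebraMap_isIntegral_iff.2 (inferInstance : Algebra.IsIntegral (CAlg2.red A) (CAlg2.normRed A)))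

theorem hom_ext_normRed {A : Type u} [CommRing A] [IsLocalRing A] (h : CAlg2.IsGeomUnibranch A)
    {Ω : Type u} [Field Ω] (f g : CAlg2.normRed A →+* Ω) (hfg : f.comp (toNorm A) = g.comp (toNorm A))
    (hmax : RingHom.ker (f.comp (toNorm A)) = IsLocalRing.maximalIdeal A) : f = g := by
  haveI := h.1.2
  have hmax' : ∀ f : CAlg2.normRed A →+* Ω, RingHom.ker (f.comp (toNorm A)) = IsLocalRing.maximalIdeal A →
      RingHom.ker f = IsLocalRing.maximalIdeal (CAlg2.normRed A) := fun f hf => by
    haveI : (RingHom.ker f).IsPrime := RingHom.ker_isPrime f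
    haveI : ((RingHom.ker f).comap (toNorm A)).IsMaximal := by
      rw [RingHom.comap_ker, hf]; exact IsLocalRing.maximalIdeal.isMaximal A
    exact IsLocalRing.eq_maximalIdeal
      (Ideal.isMaximal_of_isIntegral_of_isMaximal_comap' _ (toNorm_isIntegral A) _ inferInstance)
  have hf := hmax' f hmax
  have hg := hmax' g (hfg ▸ hmax)
  refine RingHom.ext fun x => ?_
  set m := IsLocalRing.maximalIdeal (CAlg2.normRed A)
  obtain ⟨n, a, ha⟩ := h.2 m (Ideal.Quotient.mk m x)
  set q := ringExpChar (CAlg2.normRed A ⧸ m)
  haveI : IsDomain (CAlg2.normRed A ⧸ m) := Ideal.Quotient.isDomain m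
  haveI : ExpChar (CAlg2.normRed A ⧸ m) q := ringExpChar.expChar _
  haveI : ExpChar Ω q := expChar_of_injective_ringHom (f := Ideal.Quotient.lift m f (fun y hy => by rwa [← hf] at hy))
    (RingHom.lift_injective_of_ker_le_ideal m _ hf.le) q
  have hx : x ^ q ^ n - toNorm A a ∈ m :=
    Ideal.Quotient.eq.1 ((map_pow (Ideal.Quotient.mk m) x (q ^ n)).trans ha.symm)
  have e1 : f x ^ q ^ n = f (toNorm A a) := by
    rw [← map_pow, ← sub_eq_zero, ← map_sub]; exact (hf.ge hx)
  have e2 : g x ^ q ^ n = g (toNorm A a) := by
    rw [← map_pow, ← sub_eq_zero, ← map_sub]; exact (hg.ge hx)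
  apply iterateFrobenius_inj Ω q n
  rw [iterateFrobenius_def, iterateFrobenius_def, e1, e2]
  exact RingHom.congr_fun hfg a

variable {L : Type u} [Field L]

/-- `L` is purely inseparable over the field of fractions of `A` -/
def IsPI (A : Type u) (L : Type u) [CommRing A] [Field L] [Algebra A L] : Prop :=
  ∀ x : L, ∃ (e : ℕ) (a d : A), d ≠ 0 ∧ x ^ ringExpChar L ^ e * algebraMap A L d = algebraMap A L a

theorem hom_ext_local {A : Type u} [CommRing A] [IsLocalRing A] (h : CAlg2.IsGeomUnibranch A)
    [Algebra A L] (hinj : Function.Injective (algebraMap A L)) (hpi : IsPI A L)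
    {Ω : Type u} [Field Ω] (f g : integralClosure A L →+* Ω)
    (hfg : f.comp (algebraMap A _) = g.comp (algebraMap A _))
    (hmax : RingHom.ker (f.comp (algebraMap A (integralClosure A L))) = IsLocalRing.maximalIdeal A) : f = g := by
  haveI : IsDomain A := hinj.isDomain _
  haveI := h.1.1
  let φ : CAlg2.red A →+* L := Ideal.Quotient.lift _ (algebraMap A L) fun a ha => by
    rw [nilradical_eq_zero, Submodule.zero_eq_bot, Ideal.mem_bot] at ha
    rw [ha, map_zero]
  have hφ : Function.Injective φ := RingHom.lift_injective_of_ker_le_ideal _ _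
    (by rw [(RingHom.injective_iff_ker_eq_bot _).1 hinj]; exact bot_le)
  let ι₀ : FractionRing (CAlg2.red A) →+* L := IsFractionRing.lift hφ
  have hι₀ : ∀ a : A, ι₀ (algebraMap (CAlg2.red A) _ (Ideal.Quotient.mk _ a)) = algebraMap A L a := fun a => by
    simp only [ι₀, IsFractionRing.lift_algebraMap]; rfl
  let ι : CAlg2.normRed A →+* integralClosure A L :=
    ((ι₀.comp (algebraMap (CAlg2.normRed A) (FractionRing (CAlg2.red A))))).codRestrict _ fun x => by
      obtain ⟨P, hP, hPx⟩ := toNorm_isIntegral A x
      refine ⟨P, hP, ?_⟩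
      have h1 := congrArg (ι₀.comp (algebraMap (CAlg2.normRed A) (FractionRing (CAlg2.red A)))) hPx
      rw [Polynomial.hom_eval₂, map_zero] at h1
      have h2 : algebraMap A L = (ι₀.comp (algebraMap (CAlg2.normRed A) (FractionRing (CAlg2.red A)))).comp
          (toNorm A) := RingHom.ext fun a => (hι₀ a).symm
      rw [h2]
      exact h1
  have hιA : ι.comp (toNorm A) = algebraMap A _ := RingHom.ext fun a => Subtype.ext (hι₀ a)
  have hι : f.comp ι = g.comp ι := hom_ext_normRed h _ _
    (by rw [RingHom.comp_assoc, RingHom.comp_assoc, hιA, hfg]) (by rw [RingHom.comp_assoc, hιA, hmax])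
  refine RingHom.ext fun b => ?_
  obtain ⟨e, a, d, hd, hbe⟩ := hpi b.1
  set q := ringExpChar L
  let c : FractionRing (CAlg2.red A) := algebraMap (CAlg2.red A) _ (Ideal.Quotient.mk _ a) /
    algebraMap (CAlg2.red A) _ (Ideal.Quotient.mk _ d)
  have hc : ι₀ c = b.1 ^ q ^ e := by
    rw [map_div₀, hι₀, hι₀, ← hbe, mul_div_cancel_right₀ _ ((map_ne_zero_iff _ hinj).2 hd)]
  have hci : IsIntegral (CAlg2.red A) c := by
    obtain ⟨P, hP, hPx⟩ := b.2.pow (q ^ e)
    refine ⟨P.map (Ideal.Quotient.mk _), hP.map _, ι₀.injective ?_⟩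
    rw [Polynomial.eval₂_map, Polynomial.hom_eval₂, map_zero, hc]
    rwa [show ι₀.comp ((algebraMap (CAlg2.red A) (FractionRing (CAlg2.red A))).comp
        (Ideal.Quotient.mk (nilradical A))) = algebraMap A L from RingHom.ext fun a => hι₀ a]
  have hb : b ^ q ^ e = ι ⟨c, hci⟩ := Subtype.ext (by rw [SubmonoidClass.coe_pow]; exact hc.symm)
  have key : f b ^ q ^ e = g b ^ q ^ e := by
    rw [← map_pow, ← map_pow, hb]; exact RingHom.congr_fun hι _
  rcases expChar_is_prime_or_one L q with hq | hq
  · haveI : Fact q.Prime := ⟨hq⟩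
    haveI : CharP L q := by
      haveI := ringChar.charP L
      rwa [← (char_eq_expChar_iff L (ringChar L) q).2 ?_]
      rcases CharP.char_is_prime_or_zero L (ringChar L) with h1 | h1
      · exact h1
      · haveI : CharP L 0 := h1 ▸ ringChar.charP L
        exact absurd ((expChar_one_of_char_zero L q) ▸ hq) Nat.not_prime_one
    have h0 : (q : Ω) = 0 := by
      have h0A : (q : A) = 0 := hinj (by rw [map_natCast, map_zero, CharP.cast_eq_zero])
      simpa using congrArg (f.comp (algebraMap A _)) h0A
    haveI : CharP Ω q := (CharP.charP_iff_prime_eq_zero hq).2 h0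
    haveI : ExpChar Ω q := ExpChar.prime hq
    exact iterateFrobenius_inj Ω q e (by simpa [iterateFrobenius_def] using key)
  · simpa [hq] using key

theorem hom_ext_global {R : Type u} [CommRing R] [Algebra R L] (hinj : Function.Injective (algebraMap R L))
    (hpi : IsPI R L)
    (hgu : ∀ (p : Ideal R) [p.IsPrime], ∃ (A : Type u) (_ : CommRing A) (_ : IsLocalRing A) (_ : Algebra R A)
      (_ : IsLocalization.AtPrime A p), CAlg2.IsGeomUnibranch A)
    {Ω : Type u} [Field Ω] (f g : integralClosure R L →+* Ω)
    (hfg : f.comp (algebraMap R _) = g.comp (algebraMap R _)) : f = g := by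
  haveI hp : (RingHom.ker (f.comp (algebraMap R (integralClosure R L)))).IsPrime := RingHom.ker_isPrime _
  set p := RingHom.ker (f.comp (algebraMap R (integralClosure R L))) with hpdef
  obtain ⟨A, iA, iA2, iA3, iA4, hA⟩ := hgu p
  have hne : ∀ s : p.primeCompl, algebraMap R L s ≠ 0 := fun s h0 => s.2 (by
    rw [show (s : R) = 0 from hinj (by rw [h0, map_zero])]; exact p.zero_mem)
  letI : Algebra A L := (IsLocalization.lift (M := p.primeCompl) (g := algebraMap R L)
    fun s => (hne s).isUnit).toAlgebra
  haveI : IsScalarTower R A L := .of_algebraMap_eq' (IsLocalization.lift_comp _).symm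
  haveI : IsLocalization (Algebra.algebraMapSubmonoid L p.primeCompl) L :=
    IsLocalization.self (by rintro _ ⟨s, hs, rfl⟩; exact (hne ⟨s, hs⟩).isUnit)
  let inc : integralClosure R L →+* integralClosure A L :=
    (integralClosure R L).val.toRingHom.codRestrict _ fun x => IsIntegral.tower_top x.2
  letI : Algebra (integralClosure R L) (integralClosure A L) := inc.toAlgebra
  haveI : IsScalarTower (integralClosure R L) (integralClosure A L) L := .of_algebraMap_eq' rfl
  haveI : IsScalarTower R (integralClosure R L) (integralClosure A L) := .of_algebraMap_eq' (by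
    refine RingHom.ext fun r => Subtype.ext ?_
    exact (IsScalarTower.algebraMap_apply R L L r).trans rfl)
  haveI := IsLocalization.integralClosure (S := L) (Rf := A) (Sf := L) p.primeCompl
  have hunit : ∀ (f' : integralClosure R L →+* Ω), f'.comp (algebraMap R _) = f.comp (algebraMap R _) →
      ∀ y : Algebra.algebraMapSubmonoid (integralClosure R L) p.primeCompl, IsUnit (f' y) := by
    rintro f' hf' ⟨_, s, hs, rfl⟩
    refine (show f' (algebraMap R _ s) ≠ 0 from fun h0 => hs ?_).isUnit
    rw [hpdef, SetLike.mem_coe, RingHom.mem_ker, ← hf']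
    exact h0
  let F := IsLocalization.lift (S := integralClosure A L) (hunit f rfl)
  let G := IsLocalization.lift (S := integralClosure A L) (hunit g hfg.symm)
  have hFG : ∀ r : R, F (algebraMap A _ (algebraMap R A r)) = f (algebraMap R _ r) ∧
      G (algebraMap A _ (algebraMap R A r)) = g (algebraMap R _ r) := fun r => by
    rw [← IsScalarTower.algebraMap_apply,
      IsScalarTower.algebraMap_apply R (integralClosure R L) (integralClosure A L)]
    exact ⟨IsLocalization.lift_eq _ _, IsLocalization.lift_eq _ _⟩
  have hAinj : Function.Injective (algebraMap A L) := by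
    rw [RingHom.algebraMap_toAlgebra, IsLocalization.lift_injective_iff]
    refine fun x y => ⟨fun h => ?_, fun h => ?_⟩
    · obtain ⟨c, hc⟩ := (IsLocalization.eq_iff_exists p.primeCompl A).1 h
      exact mul_left_cancel₀ (hne c) (by rw [← map_mul, ← map_mul, hc])
    · rw [hinj h]
  have hpiA : IsPI A L := fun x => by
    obtain ⟨e, a, d, hd, he⟩ := hpi x
    refine ⟨e, algebraMap R A a, algebraMap R A d, fun h0 => hd (hinj ?_), ?_⟩
    · rw [IsScalarTower.algebraMap_apply R A L, h0, map_zero, map_zero]
    · rw [← IsScalarTower.algebraMap_apply, ← IsScalarTower.algebraMap_apply, he]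
  have hFGA : F.comp (algebraMap A _) = G.comp (algebraMap A _) :=
    IsLocalization.ringHom_ext p.primeCompl (RingHom.ext fun r => by
      simpa [(hFG r).1, (hFG r).2] using RingHom.congr_fun hfg r)
  have hker : RingHom.ker (F.comp (algebraMap A (integralClosure A L))) = IsLocalRing.maximalIdeal A := by
    refine le_antisymm (IsLocalRing.le_maximalIdeal (RingHom.ker_ne_top _)) fun x hx => ?_
    obtain ⟨⟨r, s⟩, hrs⟩ := IsLocalization.surj p.primeCompl x
    have hr : r ∈ p := (IsLocalization.AtPrime.to_map_mem_maximal_iff A p r).1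
      (hrs ▸ Ideal.mul_mem_right _ _ hx)
    have h1 := congrArg (F.comp (algebraMap A (integralClosure A L))) hrs
    rw [map_mul, RingHom.comp_apply, RingHom.comp_apply, RingHom.comp_apply, (hFG _).1, (hFG _).1] at h1
    rw [RingHom.mem_ker, RingHom.comp_apply]
    exact (mul_eq_zero.1 (h1.trans hr)).resolve_right fun h0 => s.2 h0
  have := hom_ext_local hA hAinj hpiA F G hFGA hker
  refine RingHom.ext fun b => ?_
  rw [← IsLocalization.lift_eq (S := integralClosure A L) (hunit f rfl) b,
    ← IsLocalization.lift_eq (S := integralClosure A L) (hunit g hfg.symm) b]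
  exact RingHom.congr_fun this _

end Groth.L28.Unibranch
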