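import Groth.Agent.L28.Unibranch.Alg
import Groth.Agent.L28.AWN.Basic
import Mathlib.AlgebraicGeometry.Normalization
import Mathlib.AlgebraicGeometry.FunctionField
import Mathlib.AlgebraicGeometry.Noetherian

/-!
# Normalization in a purely inseparable extension of the function field
-/

universe u

open CategoryTheory Limits AlgebraicGeometry

namespace Groth.L28.Unibranch

theorem isUH_integralClosure {R : Type u} [CommRing R] {S : Type u} [CommRing S] [Algebra R S]
    {L : Type u} [Field L] (e : S ≃+* L) (hinj : Function.Injective (algebraMap R S))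
    (hpi : ∀ x : L, ∃ (n : ℕ) (a d : R), d ≠ 0 ∧
      x ^ ringExpChar L ^ n * e (algebraMap R S d) = e (algebraMap R S a))
    (hgu : ∀ (p : Ideal R) [p.IsPrime], ∃ (A : Type u) (_ : CommRing A) (_ : IsLocalRing A) (_ : Algebra R A)
      (_ : IsLocalization.AtPrime A p), CAlg2.IsGeomUnibranch A) :
    Groth.L28.AWN.IsUH (algebraMap R (integralClosure R S)) := by
  letI : Algebra R L := (e.toRingHom.comp (algebraMap R S)).toAlgebra
  let eR : S ≃ₐ[R] L := AlgEquiv.ofRingEquiv (f := e) fun _ => rfl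
  let E := eR.mapIntegralClosure
  refine ⟨algebraMap_isIntegral_iff.2 inferInstance, fun Ω _ f g hfg => ?_, fun a ha => ?_⟩
  · have h := hom_ext_global (R := R) (L := L) (e.injective.comp hinj) hpi hgu
      (f.comp E.symm.toRingEquiv.toRingHom) (g.comp E.symm.toRingEquiv.toRingHom) (RingHom.ext fun r => by
        simpa using RingHom.congr_fun hfg r)
    refine RingHom.ext fun b => ?_
    simpa using RingHom.congr_fun h (E b)
  · exact ⟨1, by rw [pow_one]; exact hinj ((congrArg Subtype.val ha).trans (map_zero _).symm)⟩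

lemma fromSpecStalk_comp_app {Y : Scheme.{u}} (g : Y) {K : CommRingCat.{u}} (φ : Y.presheaf.stalk g ⟶ K)
    (V : Y.Opens) (hg : g ∈ V) (htop : (Spec.map φ ≫ Y.fromSpecStalk g) ⁻¹ᵁ V = ⊤) :
    (Spec.map φ ≫ Y.fromSpecStalk g).app V ≫ (Spec K).presheaf.map (eqToHom (congrArg Opposite.op htop)) ≫
      (Scheme.ΓSpecIso K).hom = Y.presheaf.germ V g hg ≫ φ := by
  have h1 : (Spec.map φ ≫ Y.fromSpecStalk g).app V ≫
      (Spec K).presheaf.map (eqToHom (congrArg Opposite.op htop)) =
      (Spec.map φ ≫ Y.fromSpecStalk g).appLE V ⊤ htop.ge := rfl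
  have h2 : ∀ h, (Y.fromSpecStalk g).appLE V ⊤ h =
      Y.presheaf.germ V g hg ≫ (Scheme.ΓSpecIso (Y.presheaf.stalk g)).inv := fun h => by
    rw [Scheme.Hom.appLE, Scheme.fromSpecStalk_app hg, Category.assoc, Category.assoc, ← Functor.map_comp,
      Subsingleton.elim (_ ≫ _) (𝟙 (Opposite.op (⊤ : (Spec (Y.presheaf.stalk g)).Opens))),
      CategoryTheory.Functor.map_id, Category.comp_id]
  have h3 : (Spec.map φ).appLE ⊤ ⊤ le_top = (Spec.map φ).appTop := Scheme.Hom.appLE_eq_app _
  have hle : (⊤ : (Spec (Y.presheaf.stalk g)).Opens) ≤ Y.fromSpecStalk g ⁻¹ᵁ V := by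
    intro x _
    change Y.fromSpecStalk g x ∈ V
    obtain ⟨y, hy, hxy⟩ : ∃ y, y = Y.fromSpecStalk g x ∧ y ⤳ g := ⟨_, rfl, by
      have : Y.fromSpecStalk g x ∈ Set.range (Y.fromSpecStalk g) := ⟨x, rfl⟩
      rwa [Scheme.range_fromSpecStalk] at this⟩
    rw [← hy]; exact hxy.mem_open V.isOpen hg
  rw [← Category.assoc, h1, ← Scheme.Hom.appLE_comp_appLE (Spec.map φ) (Y.fromSpecStalk g) V ⊤ ⊤ hle le_top,
    h2, h3, Category.assoc, Category.assoc, Scheme.ΓSpecIso_naturality, Iso.inv_hom_id_assoc]

set_option backward.isDefEq.respectTransparency false in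
theorem isUnivHomeo_fromNormalization {Y : Scheme.{u}} [IsIntegral Y]
    (hY : ∀ y : Y, CAlg2.IsGeomUnibranch (Y.presheaf.stalk y))
    (L : Type u) [Field L] [Algebra Y.functionField L] [IsPurelyInseparable Y.functionField L]
    (f : Spec (CommRingCat.of L) ⟶ Y) [QuasiCompact f] [QuasiSeparated f]
    (hf : f = Spec.map (CommRingCat.ofHom (algebraMap Y.functionField L)) ≫ Y.fromSpecStalk (genericPoint Y)) :
    FlatMor.IsUnivHomeo f.fromNormalization := by
  have : MorphismProperty.RespectsIso (FlatMor.IsUnivHomeo.{u}) :=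
    MorphismProperty.universally_respectsIso _
  let U : Y → Y.affineOpens := fun y =>
    ⟨_, (exists_isAffineOpen_mem_and_subset (X := Y) (x := y) (U := ⊤) trivial).choose_spec.1⟩
  have hU : ∀ y, y ∈ (U y).1 := fun y =>
    (exists_isAffineOpen_mem_and_subset (X := Y) (x := y) (U := ⊤) trivial).choose_spec.2.1
  have key : ∀ y, FlatMor.IsUnivHomeo (f.fromNormalization ∣_ (U y).1) := by
    intro y
    set V := U y
    letI : Algebra Γ(Y, V.1) Γ(Spec (CommRingCat.of L), f ⁻¹ᵁ V.1) := (f.app V.1).hom.toAlgebra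
    haveI : Nonempty V.1 := ⟨⟨y, hU y⟩⟩
    have hg : genericPoint Y ∈ V.1 :=
      ((genericPoint_spec Y).mem_open_set_iff V.1.isOpen).mpr ⟨y, Set.mem_univ _, hU y⟩
    have htop : f ⁻¹ᵁ V.1 = ⊤ := by
      refine top_unique fun x _ => ?_
      rw [hf]
      change Y.fromSpecStalk (genericPoint Y) _ ∈ V.1
      have : ∀ p, Y.fromSpecStalk (genericPoint Y) p = genericPoint Y := fun p => by
        have hsub : Subsingleton ↥(Spec (Y.presheaf.stalk (genericPoint Y))) :=
          (inferInstance : Subsingleton (PrimeSpectrum Y.functionField))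
        rw [Subsingleton.elim p (IsLocalRing.closedPoint _), Scheme.fromSpecStalk_closedPoint]
      rw [this]; exact hg
    let r : Γ(Spec (CommRingCat.of L), f ⁻¹ᵁ V.1) ≅ CommRingCat.of L :=
      (Spec (CommRingCat.of L)).presheaf.mapIso (eqToIso (congrArg Opposite.op htop)) ≪≫ Scheme.ΓSpecIso _
    have happ : ∀ a, r.commRingCatIsoToRingEquiv (algebraMap Γ(Y, V.1) Γ(Spec (CommRingCat.of L), f ⁻¹ᵁ V.1) a) =
        algebraMap Y.functionField L (Y.presheaf.germ V.1 (genericPoint Y) hg a) := by
      intro a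
      have h : f.app V.1 ≫ r.hom = Y.presheaf.germ V.1 (genericPoint Y) hg ≫
          CommRingCat.ofHom (algebraMap Y.functionField L) := by
        subst hf
        exact fromSpecStalk_comp_app _ _ _ hg htop
      exact congrArg (fun φ => φ.hom a) h
    letI := TopCat.Presheaf.algebra_section_stalk Y.presheaf (⟨genericPoint Y, hg⟩ : V.1)
    haveI : IsFractionRing Γ(Y, V.1) Y.functionField := functionField_isFractionRing_of_isAffineOpen Y V.1 V.2
    have hUH : Groth.L28.AWN.IsUH
        (algebraMap Γ(Y, V.1) (integralClosure Γ(Y, V.1) Γ(Spec (CommRingCat.of L), f ⁻¹ᵁ V.1))) := by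
      refine isUH_integralClosure r.commRingCatIsoToRingEquiv (fun a b hab => ?_) (fun x => ?_) (fun p hp => ?_)
      · refine IsFractionRing.injective Γ(Y, V.1) Y.functionField ((algebraMap Y.functionField L).injective ?_)
        exact ((happ a).symm.trans (congrArg _ hab)).trans (happ b)
      · have hexp : ringExpChar L = ringExpChar Y.functionField := by
          haveI := expChar_of_injective_ringHom (algebraMap Y.functionField L).injective (ringExpChar Y.functionField)
          exact ringExpChar.eq L _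
        obtain ⟨n, c, hc⟩ := IsPurelyInseparable.pow_mem Y.functionField (ringExpChar Y.functionField) x
        obtain ⟨a, d, hd, hcad⟩ := IsFractionRing.div_surjective (A := Γ(Y, V.1)) c
        refine ⟨n, a, d, nonZeroDivisors.ne_zero hd, ?_⟩
        rw [happ, happ, hexp, ← hc, ← map_mul, ← hcad]
        congr 1
        exact div_mul_cancel₀ _ (IsFractionRing.to_map_ne_zero_of_mem_nonZeroDivisors hd)
      · let z : V.1 := ⟨V.2.fromSpec ⟨p, hp⟩, V.2.range_fromSpec.le ⟨_, rfl⟩⟩
        exact ⟨_, inferInstance, inferInstance, TopCat.Presheaf.algebra_section_stalk Y.presheaf z,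
          V.2.isLocalization_stalk' ⟨p, hp⟩ z.2, hY _⟩
    have h2 := (Groth.L28.AWN.isUnivHomeo_iff_isUH _).mpr hUH
    have hV : IsAffineOpen V.1 := V.2
    haveI : IsOpenImmersion (f.normalizationOpenCover.f V) := f.normalizationOpenCover.map_prop V
    let e := IsOpenImmersion.isoOfRangeEq (f.fromNormalization ⁻¹ᵁ V.1).ι (f.normalizationOpenCover.f V)
      (by simpa using congr($(f.fromNormalization_preimage V).1))
    rw [← MorphismProperty.cancel_left_of_respectsIso FlatMor.IsUnivHomeo e.inv,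
      ← MorphismProperty.cancel_right_of_respectsIso FlatMor.IsUnivHomeo _ hV.isoSpec.hom]
    convert! h2
    rw [← cancel_mono hV.fromSpec]
    simp [IsAffineOpen.isoSpec_hom, e, Scheme.Hom.ι_fromNormalization]
    rfl
  rw [Groth.L20.isUnivHomeo_iff]
  have h := fun y => (Groth.L20.isUnivHomeo_iff _).mp (key y)
  have hcov : (⨆ y, (U y).1) = ⊤ := top_unique fun y _ => TopologicalSpace.Opens.mem_iSup.2 ⟨y, hU y⟩
  exact ⟨(IsZariskiLocalAtTarget.iff_of_iSup_eq_top (P := @UniversallyClosed) _ hcov).2 fun y => (h y).1,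
    (IsZariskiLocalAtTarget.iff_of_iSup_eq_top (P := @UniversallyInjective) _ hcov).2 fun y => (h y).2.1,
    (IsZariskiLocalAtTarget.iff_of_iSup_eq_top (P := @Surjective) _ hcov).2 fun y => (h y).2.2⟩

end Groth.L28.Unibranch
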